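import Groth.Agent.CdCurveLib.Refine
import Groth.Agent.EtBrLib.Point
import Groth.Agent.SkySumLib.MaxUnitMain
import Groth.Agent.EtShLib.FlasquePush
import Groth.Agent.S3054

/-!
# Torsion sheaves on curves have no cohomology above degree two
-/

set_option autoImplicit false
set_option linter.style.haveILetI false
set_option linter.unusedSectionVars false
set_option backward.isDefEq.respectTransparency false
set_option backward.isDefEq.respectTransparency.types false
set_option synthInstance.maxHeartbeats 400000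
set_option maxHeartbeats 2000000

universe u

open CategoryTheory CategoryTheory.Limits CategoryTheory.Abelian AlgebraicGeometry Opposite
open Groth.Agent.EtShLib EtSliceLib EtTransferLib SkySumLib

noncomputable section

namespace CdCurveLib

theorem isTorsion_of_torsionBy {X : Scheme.{u}} {F : EtCoh.Ab X} (h : TorsionBy (fun n => 0 < n) F) :
    EtCoh.IsTorsion F := by
  intro U s y
  obtain ⟨Ω, _, _, ξ, u, rfl⟩ := exists_geometric (U := U) y
  obtain ⟨m, hm, he⟩ := h Ω ξ (germ (A := AddCommGrpCat.{u + 1}) ξ F U u s)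
  obtain ⟨V, g, v, hv, he'⟩ := (germ_eq_iff (A := AddCommGrpCat.{u + 1}) ξ U u (m • s) 0).1
    (by rw [map_nsmul, he, map_zero])
  refine ⟨V, g, ⟨v.pt, congrArg (fun t : Fib ξ U => t.pt) hv⟩, isOfFinAddOrder_iff_nsmul_eq_zero.2 ⟨m, hm, ?_⟩⟩
  rw [← map_nsmul, he', map_zero]

theorem isTorsion_pull_map {X Y : Scheme.{u}} (f : X ⟶ Y) {F : EtCoh.Ab Y} (hF : EtCoh.IsTorsion F) :
    EtCoh.IsTorsion ((EtCoh.pull f).obj F) := by
  refine isTorsion_of_torsionBy fun Ω _ _ ξ P => ?_
  let e := ((stalkPull f ξ AddCommGrpCat.{u + 1}).app F).addCommGroupIsoToAddEquiv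
  obtain ⟨m, hm, he⟩ := torsionBy_of_isTorsion hF Ω (ξ ≫ f) (e.symm P)
  refine ⟨m, hm, ?_⟩
  exact e.symm.injective ((map_nsmul e.symm m P).trans (he.trans (map_zero e.symm).symm))

theorem subsingleton_ext_of_compact {K : Type u} [Field K] (G : EtCoh.Ab (Spec (CommRingCat.of K)))
    (hG : EtCoh.IsTorsion G) {e : ℕ} (hK : EtCoh.CohDimLE (Spec (CommRingCat.of K)) e)
    (V : (Spec (CommRingCat.of K)).Etale) [CompactSpace V.left] (m : ℕ) (hm : e < m) :
    Subsingleton (Ext.{u + 1} (free V) G m) := by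
  let φ : V.left ⟶ Spec (CommRingCat.of K) := V.hom
  haveI : AlgebraicGeometry.Etale φ := V.prop
  haveI : IsFinite φ := isFinite_of_etale_compact φ
  haveI : (EtCoh.push φ).Additive := { }
  haveI : PreservesLimitsOfSize.{0, 0} (EtCoh.push φ) := (EtCoh.pullPushAdj φ).rightAdjoint_preservesLimits
  haveI : PreservesFiniteLimits (EtCoh.push φ) := PreservesLimitsOfSize.preservesFiniteLimits _
  haveI : PreservesFiniteLimits (EtCoh.pull φ) := inferInstance
  let G' := (EtCoh.pull φ).obj G
  have hG' : EtCoh.IsTorsion ((EtCoh.push φ).obj G') :=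
    isTorsion_of_iso ((EtCoh.push φ).rightDerivedZeroIsoSelf.app G')
      (isTorsion_rightDerived_push φ (isTorsion_pull V hG) 0)
  haveI := hK _ hG' m hm
  haveI : Subsingleton (EtCoh.H V.left G' m) :=
    (Groth.Agent.S14451.result φ G' (fun j hj => isZero_rightDerived_push_finite φ G' j hj) m).2.subsingleton
  exact ⟨fun a b => (psi_bijective V m G).1 (Subsingleton.elim (α := EtCoh.H V.left G' m) _ _)⟩

theorem stk_map_compare {Z X : Scheme.{u}} (f : Z ⟶ X) {Ω : Type u} [Field Ω] [IsSepClosed Ω]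
    (ζ : Spec (CommRingCat.of Ω) ⟶ Z) {A B : EtCoh.Ab Z} (φ : A ⟶ B) :
    (stk (A := AddCommGrpCat.{u + 1}) (ζ ≫ f)).map ((EtCoh.push f).map φ) ≫ compare f ζ B =
      compare f ζ A ≫ (stk (A := AddCommGrpCat.{u + 1}) ζ).map φ := by
  apply stk_hom_ext
  intro U u
  rw [← Category.assoc, germ_natural, Category.assoc]
  refine (congrArg (_ ≫ ·) (germ_compare f ζ B U u)).trans ?_
  refine Eq.trans ?_ ((Category.assoc _ _ _).symm.trans
    ((congrArg (· ≫ _) (germ_compare f ζ A U u)).trans rfl)).symm
  exact (germ_natural ζ φ ((EtCoh.bc f).obj U) (u.lift f ζ)).symm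

variable {X : Scheme.{u}} [IsNoetherian X]

/-- `H^q(X, x_* G) = 0` for `q ≥ 3`. -/
theorem subsingleton_H_push (hdim : topologicalKrullDim X ≤ 1)
    (hsep : ∀ z : Pt X, IsSepClosed (X.residueField z.1)) (x : X) (hx : DivSeqLib.IsMaxPt x)
    (hK : EtCoh.CohDimLE (Spec (X.residueField x)) 1)
    (G : EtCoh.Ab (Spec (X.residueField x))) (hG : EtCoh.IsTorsion G) (q : ℕ) (hq : 3 ≤ q) :
    Subsingleton (EtCoh.H X ((EtCoh.push (X.fromSpecResidueField x)).obj G) q) := by
  let i := X.fromSpecResidueField x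
  let K := X.residueField x
  haveI : QuasiCompact i := quasiCompact_of_compactSpace _
  haveI : QuasiSeparated i := inferInstance
  haveI : PreservesFiniteLimits (EtCoh.pull i) := inferInstance
  haveI : (EtCoh.push i).Additive := { }
  haveI : PreservesLimitsOfSize.{0, 0} (EtCoh.push i) := (EtCoh.pullPushAdj i).rightAdjoint_preservesLimits
  haveI : PreservesFiniteLimits (EtCoh.push i) := PreservesLimitsOfSize.preservesFiniteLimits _
  let ip := (EnoughInjectives.presentation G).some
  haveI : Injective ip.J := ip.injective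
  let S : ShortComplex (EtCoh.Ab (Spec K)) := ShortComplex.mk ip.f (cokernel.π ip.f) (cokernel.condition _)
  have hS : S.ShortExact := { exact := ShortComplex.exact_of_g_is_cokernel _ (cokernelIsCokernel _) }
  let I := S.X₂
  let C := S.X₃
  haveI : Injective S.X₂ := ip.injective
  haveI := injective_push i I
  -- higher direct images of the cokernel
  have hR : ∀ p : ℕ, 0 < p → IsZero ((EtCoh.Rpush i p).obj C) := fun p hp => by
    obtain ⟨n, rfl⟩ : ∃ n, p = n + 1 := ⟨p - 1, by omega⟩
    refine EtAcycLib.isZero_Rpush_of_killed i n _ fun W y w => ?_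
    obtain ⟨W', φ, w', hw', hW'⟩ := SkySumLib.exists_affine W w
    refine ⟨W', φ, ⟨w', hw'⟩, ?_⟩
    haveI := hW'
    haveI : CompactSpace ↥((EtCoh.bc i).obj W').left := (bc_mem_qcqsObj i (V := W')).1
    let y' : Ext.{u + 1} (free ((EtCoh.bc i).obj W')) C (n + 1) :=
      (Ext.mk₀ (freeMap ((EtCoh.bc i).map φ))).comp y (zero_add (n + 1))
    haveI := subsingleton_ext_of_compact (K := X.residueField x) G hG hK ((EtCoh.bc i).obj W') (n + 2) (by omega)
    obtain ⟨z, hz⟩ := Ext.covariant_sequence_exact₃ _ hS y' (n₁ := n + 2) rfl (Subsingleton.elim _ _)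
    show y' = 0
    rw [← hz, Ext.eq_zero_of_injective z, Ext.zero_comp]
  have hC : ∀ m : ℕ, 1 ≤ m → Subsingleton (EtCoh.H X ((EtCoh.push i).obj C) m) := fun m hm => by
    haveI : Subsingleton (EtCoh.H (Spec K) C m) := by
      refine subsingleton_of_forall_eq 0 fun y => ?_
      obtain ⟨m', rfl⟩ : ∃ m', m = m' + 1 := ⟨m - 1, by omega⟩
      haveI := hK G hG (m' + 1 + 1) (by omega)
      obtain ⟨z, hz⟩ := Ext.covariant_sequence_exact₃ _ hS (y : Ext.{u + 1} _ C (m' + 1)) (n₁ := m' + 1 + 1) rfl
        (Subsingleton.elim (α := EtCoh.H (Spec K) G (m' + 1 + 1)) _ _)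
      rw [← hz, Ext.eq_zero_of_injective z, Ext.zero_comp]
    exact ⟨fun a b => (Groth.Agent.S14451.result i C hR m).1 (Subsingleton.elim _ _)⟩
  -- the cokernel of the pushed map lives on closed points
  let g := (EtCoh.push i).map S.g
  have hQ : SuppClosed (cokernel g) := by
    refine suppClosed_of_isZero_at_max hdim _ fun Ω _ _ ξ h => ?_
    let T := stk (A := AddCommGrpCat.{u + 1}) ξ
    haveI : Epi (T.map g) := by
      by_cases hξx : ξ.base default = x
      · obtain ⟨ζ, rfl⟩ := exists_factor i ξ (by rw [Scheme.range_fromSpecResidueField, hξx]; exact rfl)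
        haveI := isIso_compare (A := AddCommGrpCat.{u + 1}) i ζ (refines_point x ζ) I
        haveI := isIso_compare (A := AddCommGrpCat.{u + 1}) i ζ (refines_point x ζ) C
        haveI : Epi S.g := hS.epi_g
        have e : (stk (A := AddCommGrpCat.{u + 1}) (ζ ≫ i)).map g =
            compare i ζ I ≫ (stk (A := AddCommGrpCat.{u + 1}) ζ).map S.g ≫ inv (compare i ζ C) := by
          rw [← Category.assoc, ← stk_map_compare, Category.assoc, IsIso.hom_inv_id, Category.comp_id]
        show Epi ((stk (A := AddCommGrpCat.{u + 1}) (ζ ≫ i)).map g)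
        rw [e]
        infer_instance
      · have hz : IsZero (T.obj ((EtCoh.push i).obj C)) := by
          haveI : Subsingleton (T.obj ((EtCoh.push i).obj C)) := by
            have hns : ¬ x ⤳ ξ.base default := fun hs => hξx (h _ ⟨default, rfl⟩ x hs).symm
            refine subsingleton_stalk ξ (T := (closure ({x} : Set X))ᶜ) isClosed_closure.isOpen_compl
              (fun h => hns (specializes_iff_mem_closure.2 h)) fun U hU => ?_
            haveI : IsEmpty ((EtCoh.bc i).obj U).left := ⟨fun p =>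
              hU ⟨_, rfl⟩ (by
                rw [show U.hom.base ((pullback.fst U.hom i).base p) = x from fibre_over p]
                exact subset_closure rfl)⟩
            exact subsingleton_sect_of_isEmpty C ((EtCoh.bc i).obj U)
          exact AddCommGrpCat.isZero_of_subsingleton _
        exact ⟨fun a b _ => hz.eq_of_src a b⟩
    exact IsZero.of_iso (isZero_cokernel_of_epi _) (PreservesCokernel.iso T g)
  haveI := hS.mono_f
  let S1 : ShortComplex (EtCoh.Ab X) := ShortComplex.mk ((EtCoh.push i).map S.f) (Abelian.factorThruImage g)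
    ((cancel_mono (Abelian.image.ι g)).1 (by
      rw [Category.assoc, Abelian.image.fac, ← Functor.map_comp, S.zero, Functor.map_zero, zero_comp]))
  let S2 : ShortComplex (EtCoh.Ab X) := ShortComplex.mk (Abelian.image.ι g) (cokernel.π g) (kernel.condition _)
  have hS1 : S1.ShortExact :=
    { exact := by
        have hker : IsLimit (KernelFork.ofι ((EtCoh.push i).map S.f)
            (show (EtCoh.push i).map S.f ≫ g = 0 by rw [← Functor.map_comp, S.zero, Functor.map_zero])) :=
          KernelFork.mapIsLimit _ hS.fIsKernel (EtCoh.push i)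
        refine ShortComplex.exact_of_f_is_kernel _ ?_
        exact KernelFork.IsLimit.ofι' _ _ fun a ha =>
          ⟨hker.lift (KernelFork.ofι a (by rw [← Abelian.image.fac g, ← Category.assoc, ha, zero_comp])),
            hker.fac _ WalkingParallelPair.zero⟩
      mono_f := inferInstanceAs (Mono ((EtCoh.push i).map S.f))
      epi_g := inferInstanceAs (Epi (Abelian.factorThruImage g)) }
  have hS2 : S2.ShortExact :=
    { exact := ShortComplex.exact_of_f_is_kernel _ (kernelIsKernel _)
      mono_f := inferInstanceAs (Mono (Abelian.image.ι g))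
      epi_g := inferInstanceAs (Epi (cokernel.π g)) }
  have hB : ∀ m : ℕ, 2 ≤ m → Subsingleton (EtCoh.H X S1.X₃ m) := fun m hm => by
    refine subsingleton_of_forall_eq 0 fun y => ?_
    haveI := hC m (by omega)
    obtain ⟨m', rfl⟩ : ∃ m', m = m' + 1 := ⟨m - 1, by omega⟩
    obtain ⟨z, hz⟩ := Ext.covariant_sequence_exact₁ _ hS2 (y : Ext.{u + 1} _ S2.X₁ (m' + 1))
      (Subsingleton.elim (α := EtCoh.H X ((EtCoh.push i).obj C) (m' + 1)) _ _) (n₀ := m') rfl
    haveI := subsingleton_H hQ hsep m' (by omega)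
    rw [← hz, show z = 0 from Subsingleton.elim (α := EtCoh.H X (cokernel g) m') z 0, Ext.zero_comp]
  refine subsingleton_of_forall_eq 0 fun y => ?_
  obtain ⟨q', rfl⟩ : ∃ q', q = q' + 1 := ⟨q - 1, by omega⟩
  obtain ⟨z, hz⟩ := Ext.covariant_sequence_exact₁ _ hS1 (y : Ext.{u + 1} _ S1.X₁ (q' + 1))
    (Ext.eq_zero_of_injective _) (n₀ := q') rfl
  haveI := hB q' (by omega)
  rw [← hz, show z = 0 from Subsingleton.elim (α := EtCoh.H X S1.X₃ q') z 0, Ext.zero_comp]

theorem cohDimLE_two (hdim : topologicalKrullDim X ≤ 1)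
    (hsep : ∀ z : Pt X, IsSepClosed (X.residueField z.1))
    (hK : ∀ x : X, DivSeqLib.IsMaxPt x → EtCoh.CohDimLE (Spec (X.residueField x)) 1) :
    EtCoh.CohDimLE X 2 := by
  classical
  intro F hF q hq
  obtain ⟨hk, hc⟩ := suppClosed_ker_coker hdim (uMax X F) fun Ω _ _ ξ h => isIso_stk_uMax X F ξ (h _ ⟨default, rfl⟩)
  haveI := (bijective_map_of_suppClosed (uMax X F) hsep hk hc).1 q (by omega)
  haveI : Fintype (MPt X) := Fintype.ofFinite _
  haveI : (EtCoh.HF X q).Additive := ⟨fun {A B f g} => by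
    ext t
    show Ext.comp t (Ext.mk₀ (f + g)) (add_zero q) = Ext.comp t (Ext.mk₀ f) (add_zero q) + Ext.comp t (Ext.mk₀ g) (add_zero q)
    rw [Ext.mk₀_add, Ext.comp_add]⟩
  haveI : Subsingleton ((EtCoh.HF X q).obj (⨁ fun x : MPt X => KP F x.1)) := by
    have hz : IsZero ((EtCoh.HF X q).obj (⨁ fun x : MPt X => KP F x.1)) := by
      rw [IsZero.iff_id_eq_zero]
      have h2 := congrArg (fun t => (EtCoh.HF X q).map t)
        (IsBilimit.total (biproduct.isBilimit fun x : MPt X => KP F x.1))
      simp only [Functor.map_sum, Functor.map_comp, CategoryTheory.Functor.map_id] at h2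
      rw [← CategoryTheory.Functor.map_id]
      refine Eq.trans ?_ ((Finset.sum_eq_zero fun x _ => ?_ :
        (∑ x : MPt X, (EtCoh.HF X q).map (biproduct.π (fun x : MPt X => KP F x.1) x) ≫
          (EtCoh.HF X q).map (biproduct.ι (fun x : MPt X => KP F x.1) x)) = 0))
      · exact (CategoryTheory.Functor.map_id _ _).trans h2.symm
      · haveI : Subsingleton ((EtCoh.HF X q).obj (KP F x.1)) :=
          subsingleton_H_push hdim hsep x.1 x.2 (hK x.1 x.2) _ (isTorsion_pull_map _ hF) q (by omega)
        rw [(AddCommGrpCat.isZero_of_subsingleton ((EtCoh.HF X q).obj (KP F x.1))).eq_of_tgt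
          ((EtCoh.HF X q).map (biproduct.π (fun x : MPt X => KP F x.1) x)) 0, zero_comp]
    exact AddCommGrpCat.subsingleton_of_isZero hz
  exact ⟨fun a b => (ConcreteCategory.bijective_of_isIso ((EtCoh.HF X q).map (uMax X F))).1
    (Subsingleton.elim (α := (EtCoh.HF X q).obj (⨁ fun x : MPt X => KP F x.1)) _ _)⟩

end CdCurveLib

end
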