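import Groth.Agent.CdCurveLib.PushPt
import Groth.Agent.CdOneLib.Brauer
import Groth.Agent.CdOneLib.CharP
import Groth.Agent.EtBrLib.Curve
import Groth.Agent.FibDimLib.Formula

/-!
# Residue fields of curves have cohomological dimension at most one
-/

set_option autoImplicit false
set_option linter.style.haveILetI false
set_option linter.unusedSectionVars false
set_option backward.isDefEq.respectTransparency false
set_option backward.isDefEq.respectTransparency.types false
set_option synthInstance.maxHeartbeats 400000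
set_option maxHeartbeats 1000000

universe u

open CategoryTheory CategoryTheory.Limits AlgebraicGeometry Opposite
open Groth.Agent.EtShLib EtSliceLib EtTransferLib SkySumLib

noncomputable section

namespace CdCurveLib

theorem cohDimLE_of_hypP {K : Type u} [Field K] (n : ℕ) (h : ∀ p : ℕ, Fact p.Prime → CdOneLib.HypP K p (n + 1)) :
    EtCoh.CohDimLE (Spec (CommRingCat.of K)) n := by
  intro F hF q hq
  obtain ⟨q, rfl⟩ : ∃ m, q = m + 1 := ⟨q - 1, by omega⟩
  refine subsingleton_of_forall_eq 0 fun x => ?_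
  obtain ⟨d, hd0, hd⟩ := EtTransferLib.isOfFinAddOrder_H K (F := F) (n := q) x
  by_contra hne
  have hord : addOrderOf x ≠ 1 := fun h => hne (AddMonoid.addOrderOf_eq_one_iff.1 h)
  obtain ⟨p, hp, hpd⟩ := Nat.exists_prime_and_dvd hord
  haveI : Fact p.Prime := ⟨hp⟩
  have hfin : IsOfFinAddOrder x := isOfFinAddOrder_iff_nsmul_eq_zero.2 ⟨d, hd0, hd⟩
  obtain ⟨r, hr⟩ := hpd
  have h1 : addOrderOf (r • x) = p := by
    have hr0 : r ≠ 0 := fun h => hfin.addOrderOf_pos.ne' (by rw [hr, h, mul_zero])
    rw [addOrderOf_nsmul_of_dvd hr0 ⟨p, by rw [hr, mul_comm]⟩, hr, Nat.mul_div_cancel _ (Nat.pos_of_ne_zero hr0)]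
  have h2 := CdOneLib.pcd_le p (h p ⟨hp⟩) F hF (q + 1) (by omega) (r • x)
    ⟨1, by rw [pow_one, ← h1, addOrderOf_nsmul_eq_zero]⟩
  rw [h2, addOrderOf_zero] at h1
  exact hp.one_lt.ne h1

theorem cohDimLE_one_of_trdeg {k : Type u} [Field k] [IsAlgClosed k] (K : Type u) [Field K] [Algebra k K]
    {s : ℕ} (hs : s ≤ 1) (hK : Algebra.trdeg k K = s) : EtCoh.CohDimLE (Spec (CommRingCat.of K)) 1 := by
  refine cohDimLE_of_hypP 1 fun p _ => ?_
  by_cases hpK : (p : K) = 0
  · haveI : CharP K p := (CharP.ringChar_of_prime_eq_zero (Fact.out : p.Prime) hpK) ▸ ringChar.charP K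
    exact CdOneLib.hypP_two_of_charP K p
  · refine CdOneLib.hypP_two_of_brP hpK fun L _ _ _ _ => ?_
    haveI := EtBrLib.subsingleton_H_Gm_ext (k := k) K hs hK 2 (by norm_num) L
    exact fun y _ => Subsingleton.elim _ _

theorem cohDimLE_residueField {k : Type u} [Field k] [IsAlgClosed k] {X : Scheme.{u}}
    (f : X ⟶ Spec (CommRingCat.of k)) [LocallyOfFiniteType f] (hdim : topologicalKrullDim X ≤ 1) (x : X) :
    EtCoh.CohDimLE (Spec (X.residueField x)) 1 := by
  obtain ⟨_, ⟨U, hU, rfl⟩, hxU, -⟩ :=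
    X.isBasis_affineOpens.exists_subset_of_mem_open (Set.mem_univ x) isOpen_univ
  let S := Γ(X, U)
  let ψ : CommRingCat.of k ⟶ S := Spec.preimage (hU.fromSpec ≫ f)
  have hψ : Spec.map ψ = hU.fromSpec ≫ f := Spec.map_preimage _
  letI : Algebra k S := ψ.hom.toAlgebra
  haveI : Algebra.FiniteType k S := by
    haveI : LocallyOfFiniteType (Spec.map ψ) := by rw [hψ]; infer_instance
    exact RingHom.finiteType_algebraMap.1 ((HasRingHomProperty.Spec_iff (P := @LocallyOfFiniteType)).1 ‹_›)
  let p := hU.primeIdealOf ⟨x, hxU⟩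
  let κp := CommRingCat.of p.asIdeal.ResidueField
  let g : Spec κp ⟶ X := Spec.map (CommRingCat.ofHom (algebraMap S p.asIdeal.ResidueField)) ≫ hU.fromSpec
  obtain ⟨⟨x', c⟩, hc⟩ := (Scheme.SpecToEquivOfField p.asIdeal.ResidueField X).symm.surjective g
  have hcg : Spec.map c ≫ X.fromSpecResidueField x' = g := hc
  have hx' : x' = x := by
    have h : g.base default ∈ Set.range (X.fromSpecResidueField x').base := by
      rw [← hcg]
      exact ⟨_, rfl⟩
    rw [Scheme.range_fromSpecResidueField, Set.mem_singleton_iff] at h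
    rw [← h]
    let d : PrimeSpectrum p.asIdeal.ResidueField := default
    have hd : d.asIdeal = ⊥ := (d.asIdeal.eq_bot_or_top).resolve_right d.isPrime.ne_top
    have hp : PrimeSpectrum.comap (algebraMap S p.asIdeal.ResidueField) d = p := by
      refine PrimeSpectrum.ext ?_
      rw [PrimeSpectrum.comap_asIdeal, hd]
      exact Ideal.ker_algebraMap_residueField p.asIdeal
    have e : ∀ z : ↥(Spec κp), g.base z = (IsAffineOpen.fromSpec hU).base p := fun z => by
      show (IsAffineOpen.fromSpec hU).base ((Spec.map (CommRingCat.ofHom (algebraMap S p.asIdeal.ResidueField))).base z) = _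
      refine congrArg _ ?_
      haveI : Subsingleton ↥(Spec κp) := inferInstanceAs (Subsingleton (PrimeSpectrum p.asIdeal.ResidueField))
      rw [Subsingleton.elim z d]
      exact hp
    rw [e]
    exact IsAffineOpen.fromSpec_primeIdealOf hU ⟨x, hxU⟩
  subst hx'
  let a : CommRingCat.of k ⟶ X.residueField x' := Spec.preimage (X.fromSpecResidueField x' ≫ f)
  have ha : Spec.map a = X.fromSpecResidueField x' ≫ f := Spec.map_preimage _
  letI : Algebra k (X.residueField x') := a.hom.toAlgebra
  have hac : a ≫ c = ψ ≫ CommRingCat.ofHom (algebraMap S p.asIdeal.ResidueField) := by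
    apply Spec.map_injective
    rw [Spec.map_comp, Spec.map_comp, ha, hψ, ← Category.assoc, hcg]
    rfl
  let cA : X.residueField x' →ₐ[k] p.asIdeal.ResidueField :=
    { c.hom with commutes' := fun r =>
        (congrArg (fun t => t.hom r) hac).trans (IsScalarTower.algebraMap_apply k S p.asIdeal.ResidueField r).symm }
  obtain ⟨t, ht, ht'⟩ := FibDimLib.ringKrullDim_quotient_eq_trdeg (k := k) (S := S) p.asIdeal
  have hle : ringKrullDim (S ⧸ p.asIdeal) ≤ 1 := by
    refine (ringKrullDim_quotient_le p.asIdeal).trans ?_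
    rw [← PrimeSpectrum.topologicalKrullDim_eq_ringKrullDim S]
    exact ((IsAffineOpen.fromSpec hU).isOpenEmbedding.isInducing.topologicalKrullDim_le).trans hdim
  rw [ht] at hle
  have ht1 : t ≤ 1 := by exact_mod_cast hle
  have h1 : Algebra.trdeg k (X.residueField x') ≤ (t : Cardinal) :=
    ht' ▸ trdeg_le_of_injective cA cA.toRingHom.injective
  obtain ⟨s, hs⟩ := Cardinal.lt_aleph0.1 (h1.trans_lt (Cardinal.natCast_lt_aleph0))
  have hst : s ≤ t := by exact_mod_cast (hs ▸ h1)
  exact cohDimLE_one_of_trdeg (k := k) (X.residueField x') (hst.trans ht1) hs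

theorem cohDimLE_two_curve {k : Type u} [Field k] [IsAlgClosed k] {X : Scheme.{u}}
    (f : X ⟶ Spec (CommRingCat.of k)) [LocallyOfFiniteType f] [QuasiCompact f]
    (hdim : topologicalKrullDim X ≤ 1) : EtCoh.CohDimLE X 2 := by
  haveI : IsNoetherian X := by
    haveI : IsLocallyNoetherian X := LocallyOfFiniteType.isLocallyNoetherian f
    haveI : CompactSpace X := QuasiCompact.compactSpace_of_compactSpace f
    exact ⟨⟩
  exact cohDimLE_two hdim (fun z => isSepClosed_residueField f z.1 z.2) fun x _ => cohDimLE_residueField f hdim x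

end CdCurveLib

end
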