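import Groth.Agent.SkySumLib.MaxUnit
import Groth.Agent.WeightLib.Local
import Groth.Agent.EtTransferLib.PointTorsion
import Groth.Agent.EtShLib.PushStalk
import Mathlib.AlgebraicGeometry.Morphisms.FormallyUnramified
import Mathlib.AlgebraicGeometry.ResidueField

/-!
# Etale neighbourhoods over a point are refined from below
-/

set_option autoImplicit false
set_option linter.style.haveILetI false
set_option linter.unusedSectionVars false
set_option backward.isDefEq.respectTransparency false
set_option backward.isDefEq.respectTransparency.types false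
set_option synthInstance.maxHeartbeats 400000
set_option maxHeartbeats 2000000

universe u

open CategoryTheory CategoryTheory.Limits AlgebraicGeometry Opposite
open Groth.Agent.EtShLib SkySumLib

noncomputable section

namespace CdCurveLib

theorem exists_lift_nbhd {Y : Scheme.{u}} (y : Y) (L : Type u) [Field L] [Algebra (Y.residueField y) L]
    [FiniteDimensional (Y.residueField y) L] [Algebra.IsSeparable (Y.residueField y) L]
    {Ω : Type u} [Field Ω] [IsSepClosed Ω] (χ : L →+* Ω) :
    ∃ (V : Scheme.{u}) (g : V ⟶ Y) (_ : AlgebraicGeometry.Etale g) (v : V) (ι : L →+* V.residueField v)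
      (b : V.residueField v →+* Ω), g v = y ∧ b.comp ι = χ ∧
        Spec.map (CommRingCat.ofHom ι) ≫ Spec.map (CommRingCat.ofHom (algebraMap (Y.residueField y) L)) ≫
          Y.fromSpecResidueField y = V.fromSpecResidueField v ≫ g := by
  obtain ⟨V, g, _, v, c, ι, hgv, hc, hι⟩ := WeightLib.exists_etale_nbhd_field y L
  subst hgv
  have hcf : c = g.residueFieldMap v := by
    apply Spec.map_injective
    rw [← cancel_mono (Y.fromSpecResidueField (g v)), hc]
    exact (Scheme.Hom.SpecMap_residueFieldMap_fromSpecResidueField g v).symm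
  subst hcf
  letI : Algebra (Y.residueField (g v)) (V.residueField v) := (g.residueFieldMap v).hom.toAlgebra
  haveI : Algebra.IsSeparable (Y.residueField (g v)) (V.residueField v) :=
    inferInstanceAs (Algebra.IsSeparable (Y.residueField (g.base v)) (V.residueField v))
  letI : Algebra L (V.residueField v) := ι.toAlgebra
  haveI : IsScalarTower (Y.residueField (g v)) L (V.residueField v) :=
    IsScalarTower.of_algebraMap_eq' hι.symm
  haveI : Algebra.IsSeparable L (V.residueField v) :=
    Algebra.isSeparable_tower_top_of_isSeparable (Y.residueField (g v)) L (V.residueField v)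
  letI : Algebra L Ω := χ.toAlgebra
  let b : V.residueField v →ₐ[L] Ω := IsSepClosed.lift
  refine ⟨V, g, inferInstance, v, ι, b.toRingHom, rfl, b.comp_algebraMap, ?_⟩
  rw [← Spec.map_comp_assoc]
  refine Eq.trans ?_ hc
  exact congrArg (fun t => Spec.map t ≫ _) (CommRingCat.hom_ext hι)

theorem exists_isolated {X : Scheme.{u}} [IsNoetherian X] {x : X} {Ω : Type u} [Field Ω] [IsSepClosed Ω]
    {ξ : Spec (CommRingCat.of Ω) ⟶ X} (hξ : ξ.base default = x) (U : X.Etale) (u : Fib ξ U) :
    ∃ (U₁ : X.Etale) (k : U₁ ⟶ U) (u₁ : Fib ξ U₁), u₁.map k = u ∧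
      ∀ a : U₁.left, U₁.hom.base a = x → a = u₁.pt := by
  obtain ⟨W, g, w, hW, hw⟩ := exists_affine_below' ξ U u
  haveI := hW
  haveI : AlgebraicGeometry.Etale W.hom := W.prop
  have hwx : W.hom.base w.pt = x := fib_pt_over hξ w
  let B : Set W.left := {a | W.hom.base a = x ∧ a ≠ w.pt}
  have hB : B.Finite := (finite_fibre (V := W) x).subset fun a ha => ha.1
  let O : W.left.Opens :=
    ⟨(⋃ a ∈ B, closure {a})ᶜ, isOpen_compl_iff.2 (hB.isClosed_biUnion fun _ _ => isClosed_closure)⟩
  have hwO : w.pt ∈ O := fun h => by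
    obtain ⟨a, haB, ha⟩ := Set.mem_iUnion₂.1 h
    exact haB.2 (eq_of_specializes_of_etale (specializes_iff_mem_closure.2 ha) (haB.1.trans hwx.symm))
  have hO : ∀ a ∈ O, W.hom.base a = x → a = w.pt := fun a ha hax => by
    by_contra hne
    exact ha (Set.mem_iUnion₂.2 ⟨a, ⟨hax, hne⟩, subset_closure rfl⟩)
  let W₁ := openSub W O
  obtain ⟨l, hl⟩ : ∃ l : Spec (CommRingCat.of Ω) ⟶ O.toScheme, l ≫ O.ι = w.hom :=
    ⟨IsOpenImmersion.lift O.ι w.hom (by
      rintro _ ⟨c, rfl⟩
      rw [Subsingleton.elim c default, Scheme.Opens.range_ι]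
      exact hwO), IsOpenImmersion.lift_fac _ _ _⟩
  let w₁ : Fib ξ W₁ := Fib.mk l (by
    show l ≫ O.ι ≫ W.hom = _
    rw [← Category.assoc, hl]
    exact w.w)
  refine ⟨W₁, openIncl W O ≫ g, w₁, ?_, fun a ha => ?_⟩
  · refine Fib.ext ?_
    rw [← hw, Fib.map_hom, Fib.map_hom]
    show l ≫ O.ι ≫ g.left = _
    rw [← Category.assoc, hl]
  · exact O.ι.isOpenEmbedding.injective
      ((hO _ a.2 ha).trans (congrArg (fun t : Spec (CommRingCat.of Ω) ⟶ W.left => t.base default) hl).symm)

theorem exists_field_below {K : Type u} [Field K] {Ω : Type u} [Field Ω] [IsSepClosed Ω]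
    {ζ : Spec (CommRingCat.of Ω) ⟶ Spec (CommRingCat.of K)} (W : (Spec (CommRingCat.of K)).Etale) (w : Fib ζ W) :
    ∃ (L : Type u) (_ : Field L) (_ : Algebra K L) (_ : FiniteDimensional K L) (_ : Algebra.IsSeparable K L)
      (q : Spec (CommRingCat.of L) ⟶ W.left) (χ : L →+* Ω),
      q ≫ W.hom = Spec.map (CommRingCat.ofHom (algebraMap K L)) ∧ Spec.map (CommRingCat.ofHom χ) ≫ q = w.hom := by
  obtain ⟨V, g, v, hV, hv⟩ := exists_affine_below' ζ W w
  haveI := hV
  let φ : V.left ⟶ Spec (CommRingCat.of K) := V.hom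
  haveI : AlgebraicGeometry.Etale φ := V.prop
  haveI : IsFinite φ := EtTransferLib.isFinite_of_etale_compact φ
  let R := Γ(V.left, ⊤)
  let ψ : CommRingCat.of K ⟶ R := Spec.preimage (V.left.isoSpec.inv ≫ φ)
  have hψ : Spec.map ψ = V.left.isoSpec.inv ≫ φ := Spec.map_preimage _
  letI : Algebra K R := ψ.hom.toAlgebra
  haveI : Module.Finite K R := by
    haveI : IsFinite (Spec.map ψ) := by rw [hψ]; infer_instance
    exact RingHom.finite_algebraMap.1 ((IsFinite.SpecMap_iff _).1 ‹_›)
  haveI : Algebra.Etale K R := by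
    haveI : AlgebraicGeometry.Etale (Spec.map ψ) := by rw [hψ]; infer_instance
    exact RingHom.etale_algebraMap.1 ((HasRingHomProperty.Spec_iff (P := @AlgebraicGeometry.Etale)).1 ‹_›)
  let χ₀ : R ⟶ CommRingCat.of Ω := Spec.preimage (v.hom ≫ V.left.isoSpec.hom)
  have hχ₀ : Spec.map χ₀ = v.hom ≫ V.left.isoSpec.hom := Spec.map_preimage _
  let m : Ideal R := RingHom.ker χ₀.hom
  haveI : m.IsPrime := RingHom.ker_isPrime _
  haveI : IsArtinianRing R := IsArtinianRing.of_finite K R
  haveI : m.IsMaximal := inferInstance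
  letI : Field (R ⧸ m) := Ideal.Quotient.field m
  haveI : Algebra.IsSeparable K (R ⧸ m) := by
    haveI : Algebra.FormallyUnramified R (R ⧸ m) :=
      Algebra.FormallyUnramified.of_surjective (Algebra.ofId _ _) Ideal.Quotient.mk_surjective
    haveI : Algebra.FormallyUnramified K (R ⧸ m) := Algebra.FormallyUnramified.comp K R (R ⧸ m)
    exact Algebra.FormallyUnramified.isSeparable K (R ⧸ m)
  let χ : R ⧸ m →+* Ω := Ideal.Quotient.lift m χ₀.hom fun a ha => ha
  refine ⟨R ⧸ m, inferInstance, inferInstance, inferInstance, inferInstance,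
    (Spec.map (CommRingCat.ofHom (Ideal.Quotient.mk m)) ≫ V.left.isoSpec.inv) ≫ g.left, χ, ?_, ?_⟩
  · rw [Category.assoc, MorphismProperty.Over.w g]
    show (_ ≫ _) ≫ φ = _
    rw [Category.assoc, ← hψ, ← Spec.map_comp]
    rfl
  · rw [← hv, Fib.map_hom, ← Category.assoc]
    refine congrArg (· ≫ g.left) ?_
    rw [← cancel_mono V.left.isoSpec.hom, ← hχ₀, Category.assoc, Category.assoc, Iso.inv_hom_id, Category.comp_id,
      ← Spec.map_comp]
    rfl

theorem isReduced_of_etale_field {K : Type u} [Field K] {S : Scheme.{u}} (φ : S ⟶ Spec (CommRingCat.of K))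
    [AlgebraicGeometry.Etale φ] [IsFinite φ] : IsReduced S := by
  haveI : IsAffine S := isAffine_of_isAffineHom φ
  let ψ : CommRingCat.of K ⟶ Γ(S, ⊤) := Spec.preimage (S.isoSpec.inv ≫ φ)
  have hψ : Spec.map ψ = S.isoSpec.inv ≫ φ := Spec.map_preimage _
  letI : Algebra K Γ(S, ⊤) := ψ.hom.toAlgebra
  haveI : Algebra.Etale K Γ(S, ⊤) := by
    haveI : AlgebraicGeometry.Etale (Spec.map ψ) := by rw [hψ]; infer_instance
    exact RingHom.etale_algebraMap.1 ((HasRingHomProperty.Spec_iff (P := @AlgebraicGeometry.Etale)).1 ‹_›)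
  haveI : _root_.IsReduced Γ(S, ⊤) := Algebra.FormallyUnramified.isReduced_of_field K Γ(S, ⊤)
  exact isReduced_of_isAffine_isReduced S

theorem refines_point {X : Scheme.{u}} [IsNoetherian X] (x : X) {Ω : Type u} [Field Ω] [IsSepClosed Ω]
    (ζ : Spec (CommRingCat.of Ω) ⟶ Spec (X.residueField x)) : Refines (X.fromSpecResidueField x) ζ := by
  intro U u W g w hw
  let i := X.fromSpecResidueField x
  let p : ((EtCoh.bc i).obj U).left ⟶ U.left := pullback.fst U.hom i
  obtain ⟨L, _, _, _, _, q, χ, hq, hχ⟩ := exists_field_below (K := X.residueField x) W w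
  let φL : Spec (CommRingCat.of L) ⟶ U.left := q ≫ g.left ≫ p
  have hφx : φL ≫ U.hom = Spec.map (CommRingCat.ofHom (algebraMap (X.residueField x) L)) ≫ i := by
    show (q ≫ g.left ≫ p) ≫ U.hom = _
    rw [Category.assoc, Category.assoc, show p ≫ U.hom = pullback.snd U.hom i ≫ i from pullback.condition,
      ← Category.assoc, ← Category.assoc, ← hq]
    refine congrArg (· ≫ i) ?_
    rw [Category.assoc]
    exact congrArg (q ≫ ·) (MorphismProperty.Over.w g)
  obtain ⟨⟨y, a⟩, ha⟩ := (Scheme.SpecToEquivOfField L U.left).symm.surjective φL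
  have haφ : Spec.map a ≫ U.left.fromSpecResidueField y = φL := ha
  have hy : U.hom.base y = x := by
    have h := congrArg (fun t : Spec (CommRingCat.of L) ⟶ X => t.base default) hφx
    rw [← haφ] at h
    have h1 : (U.left.fromSpecResidueField y).base ((Spec.map a).base default) = y :=
      Scheme.fromSpecResidueField_apply _ _
    have h2 : i.base ((Spec.map (CommRingCat.ofHom (algebraMap (X.residueField x) L))).base default) = x :=
      Scheme.fromSpecResidueField_apply _ _
    exact (congrArg U.hom.base h1).symm.trans (h.trans h2)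
  let d : X.residueField x ⟶ U.left.residueField y := (X.residueFieldCongr hy).inv ≫ U.hom.residueFieldMap y
  have hd : Spec.map d ≫ i = U.left.fromSpecResidueField y ≫ U.hom := by
    rw [Spec.map_comp, Category.assoc, ← Scheme.Hom.SpecMap_residueFieldMap_fromSpecResidueField]
    exact congrArg (_ ≫ ·) (X.residueFieldCongr_fromSpecResidueField hy.symm)
  letI : Algebra (U.left.residueField y) L := a.hom.toAlgebra
  letI : Algebra (X.residueField x) (U.left.residueField y) := d.hom.toAlgebra
  haveI : IsScalarTower (X.residueField x) (U.left.residueField y) L := by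
    refine IsScalarTower.of_algebraMap_eq' ?_
    have e : d ≫ a = CommRingCat.ofHom (algebraMap (X.residueField x) L) := by
      apply Spec.map_injective
      rw [← cancel_mono i, ← hφx, ← haφ, Spec.map_comp, Category.assoc, Category.assoc, hd]
    exact congrArg (fun t => t.hom) e.symm
  haveI : FiniteDimensional (U.left.residueField y) L :=
    Module.Finite.of_restrictScalars_finite (X.residueField x) (U.left.residueField y) L
  haveI : Algebra.IsSeparable (U.left.residueField y) L :=
    Algebra.isSeparable_tower_top_of_isSeparable (X.residueField x) (U.left.residueField y) L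
  obtain ⟨V, gV, _, v, ι, b, hgv, hb, hι⟩ := exists_lift_nbhd y L χ
  have hιφ : Spec.map (CommRingCat.ofHom ι) ≫ φL = V.fromSpecResidueField v ≫ gV := by
    rw [← hι, ← haφ]
    rfl
  haveI : AlgebraicGeometry.Etale U.hom := U.prop
  let U₂ : X.Etale := MorphismProperty.Over.mk ⊤ (gV ≫ U.hom) (inferInstance : AlgebraicGeometry.Etale (gV ≫ U.hom))
  let k₂ : U₂ ⟶ U := MorphismProperty.Over.homMk gV rfl
  let l : Spec (CommRingCat.of Ω) ⟶ V := Spec.map (CommRingCat.ofHom b) ≫ V.fromSpecResidueField v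
  have hlw : l ≫ gV = w.hom ≫ g.left ≫ p := by
    show (_ ≫ _) ≫ gV = _
    rw [Category.assoc, ← hιφ, ← Category.assoc, ← Spec.map_comp]
    rw [show CommRingCat.ofHom ι ≫ CommRingCat.ofHom b = CommRingCat.ofHom χ from CommRingCat.hom_ext hb]
    show Spec.map (CommRingCat.ofHom χ) ≫ q ≫ g.left ≫ p = _
    rw [← Category.assoc, hχ]
  have hwu : w.hom ≫ g.left ≫ p = u.hom := by
    rw [← Category.assoc, ← Fib.map_hom g w, hw]
    exact pullback.lift_fst _ _ _
  have hlv : l.base (default : Spec (CommRingCat.of Ω)) = v := by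
    have h : l.base (default : Spec (CommRingCat.of Ω)) ∈ Set.range (V.fromSpecResidueField v).base :=
      ⟨(Spec.map (CommRingCat.ofHom b)).base default, rfl⟩
    rw [Scheme.range_fromSpecResidueField] at h
    exact h
  let u₂ : Fib (ζ ≫ i) U₂ := Fib.mk l (by
    show l ≫ gV ≫ U.hom = _
    rw [← Category.assoc, hlw, hwu]
    exact u.w)
  have hξ : (ζ ≫ X.fromSpecResidueField x).base (default : Spec (CommRingCat.of Ω)) = x := by
    have h : (ζ ≫ X.fromSpecResidueField x).base (default : Spec (CommRingCat.of Ω)) ∈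
        Set.range (X.fromSpecResidueField x).base := ⟨ζ.base default, rfl⟩
    rw [Scheme.range_fromSpecResidueField] at h
    exact h
  obtain ⟨U₃, k₃, u₃, hu₃, hiso⟩ := exists_isolated (x := x) (ξ := ζ ≫ X.fromSpecResidueField x) hξ U₂ u₂
  have hu : u₃.map (k₃ ≫ k₂) = u := by
    refine Fib.ext ?_
    rw [Fib.map_hom]
    show u₃.hom ≫ k₃.left ≫ gV = u.hom
    rw [← Category.assoc, ← Fib.map_hom k₃ u₃, hu₃]
    exact hlw.trans hwu
  let P : Scheme.{u} := ((EtCoh.bc i).obj U₃).left
  let fP : P ⟶ U₃.left := pullback.fst U₃.hom i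
  haveI : IsPreimmersion fP := isPreimmersion_fst x U₃
  let z : P := (u₃.lift i ζ).pt
  haveI : AlgebraicGeometry.Etale (X := P) ((EtCoh.bc i).obj U₃).hom := ((EtCoh.bc i).obj U₃).prop
  haveI hsub : Subsingleton P := ⟨fun a b => fP.isEmbedding.injective
    ((hiso _ (fibre_over a)).trans (hiso _ (fibre_over b)).symm)⟩
  haveI : IsFinite (X := P) ((EtCoh.bc i).obj U₃).hom :=
    EtTransferLib.isFinite_of_etale_compact (k := X.residueField x) (S := P) _
  haveI : IsReduced P := isReduced_of_etale_field (K := X.residueField x) (S := P) ((EtCoh.bc i).obj U₃).hom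
  haveI : IsClosedImmersion (P.fromSpecResidueField z) :=
    isClosed_singleton_iff_isClosedImmersion.1 (by
      rw [show ({z} : Set P) = Set.univ from Set.eq_univ_of_forall fun a => Subsingleton.elim a z]
      exact isClosed_univ)
  haveI : Surjective (P.fromSpecResidueField z) :=
    ⟨fun a => ⟨default, Subsingleton.elim _ _⟩⟩
  haveI : IsIso (P.fromSpecResidueField z) := isIso_of_isClosedImmersion_of_surjective _
  have hkz : k₃.left.base (fP.base z) = v := by
    have h1 : fP.base z = u₃.pt :=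
      congrArg (fun t : Spec (CommRingCat.of Ω) ⟶ U₃.left => t.base default) (pullback.lift_fst _ _ _)
    rw [h1]
    have h2 := congrArg (fun t : Fib (ζ ≫ i) U₂ => t.pt) hu₃
    have h3 : k₃.left.base u₃.pt = (u₃.map k₃).pt :=
      (congrArg (fun t : Spec (CommRingCat.of Ω) ⟶ U₂.left => t.base default) (Fib.map_hom k₃ u₃)).symm
    exact h3.trans (h2.trans hlv)
  let ψ : P ⟶ V := fP ≫ k₃.left
  obtain ⟨e, he⟩ : ∃ e : V.residueField v ⟶ P.residueField z,
      Spec.map e ≫ V.fromSpecResidueField v = P.fromSpecResidueField z ≫ ψ := by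
    refine ⟨(V.residueFieldCongr hkz).inv ≫ ψ.residueFieldMap z, ?_⟩
    rw [Spec.map_comp, Category.assoc, ← Scheme.Hom.SpecMap_residueFieldMap_fromSpecResidueField]
    exact congrArg (_ ≫ ·) (V.residueFieldCongr_fromSpecResidueField hkz.symm)
  let hl : P ⟶ W.left := inv (P.fromSpecResidueField z) ≫ Spec.map e ≫ Spec.map (CommRingCat.ofHom ι) ≫ q
  have hfst : hl ≫ g.left ≫ p = fP ≫ k₃.left ≫ gV := by
    show (inv (P.fromSpecResidueField z) ≫ Spec.map e ≫ Spec.map (CommRingCat.ofHom ι) ≫ q) ≫ g.left ≫ p = _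
    simp only [Category.assoc]
    rw [IsIso.inv_comp_eq]
    show Spec.map e ≫ Spec.map (CommRingCat.ofHom ι) ≫ φL = _
    rw [hιφ, ← Category.assoc, he, Category.assoc]
    rfl
  have hsnd : hl ≫ W.hom = ((EtCoh.bc i).obj U₃).hom := by
    rw [← cancel_mono i, Category.assoc]
    have h1 : W.hom ≫ i = (g.left ≫ p) ≫ U.hom := by
      rw [Category.assoc, show p ≫ U.hom = pullback.snd U.hom i ≫ i from pullback.condition, ← Category.assoc]
      exact congrArg (· ≫ i) (MorphismProperty.Over.w g).symm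
    rw [h1, ← Category.assoc, hfst]
    have h2 : k₃.left ≫ gV ≫ U.hom = U₃.hom := MorphismProperty.Over.w k₃
    rw [Category.assoc, Category.assoc, h2]
    exact pullback.condition
  let h : (EtCoh.bc i).obj U₃ ⟶ W := MorphismProperty.Over.homMk hl hsnd
  refine ⟨U₃, k₃ ≫ k₂, u₃, h, hu, ?_, ?_⟩
  · refine Fib.ext ?_
    rw [Fib.map_hom]
    show (u₃.lift i ζ).hom ≫ hl = w.hom
    obtain ⟨⟨z', a'⟩, ha'⟩ := (Scheme.SpecToEquivOfField Ω P).symm.surjective (u₃.lift i ζ).hom
    obtain rfl : z' = z := Subsingleton.elim _ _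
    have ha'' : Spec.map a' ≫ P.fromSpecResidueField z = (u₃.lift i ζ).hom := ha'
    have hea : e ≫ a' = CommRingCat.ofHom b := by
      apply Spec.map_injective
      rw [← cancel_mono (V.fromSpecResidueField v), Spec.map_comp, Category.assoc, he, ← Category.assoc, ha'']
      show _ ≫ fP ≫ k₃.left = l
      rw [← Category.assoc, show (u₃.lift i ζ).hom ≫ fP = u₃.hom from pullback.lift_fst _ _ _,
        ← Fib.map_hom k₃ u₃, hu₃]
      rfl
    rw [← ha'']
    show (_ ≫ _) ≫ inv _ ≫ _ = _
    rw [Category.assoc, IsIso.hom_inv_id_assoc, ← Category.assoc (Spec.map a'), ← Spec.map_comp, hea,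
      ← Category.assoc, ← Spec.map_comp,
      show CommRingCat.ofHom ι ≫ CommRingCat.ofHom b = CommRingCat.ofHom χ from CommRingCat.hom_ext hb, hχ]
  · apply MorphismProperty.Over.Hom.ext
    show hl ≫ g.left = ((EtCoh.bc i).map (k₃ ≫ k₂)).left
    refine pullback.hom_ext ?_ ?_
    · have h1 : ((EtCoh.bc i).map (k₃ ≫ k₂)).left ≫ p = fP ≫ k₃.left ≫ gV :=
        (EtCoh.isPullback_bc_map i (k₃ ≫ k₂)).w
      rw [Category.assoc]
      exact hfst.trans h1.symm
    · rw [Category.assoc]
      exact ((congrArg (hl ≫ ·) (MorphismProperty.Over.w g)).trans hsnd).trans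
        (MorphismProperty.Over.w ((EtCoh.bc i).map (k₃ ≫ k₂))).symm

end CdCurveLib

end
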